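/-
Simple modules of `SL₂(q)` in the defining characteristic, part 1: highest weight vectors.
-/
import Mathlib

set_option autoImplicit false
set_option linter.unusedSectionVars false
set_option linter.style.haveILetI false

namespace H20.E8
open Matrix Module Finset
open scoped MatrixGroups

section fix
variable {k : Type*} [Field k] (p : ℕ) [hp : Fact p.Prime] [CharP k p] {V : Type*} [AddCommGroup V] [Module k V]

theorem ex_fix {F : Type*} [Fintype F] (u : F → End k V) (hc : ∀ a b, Commute (u a) (u b))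
    (h1 : ∀ a, u a ^ p = 1) [Nontrivial V] : ∃ v : V, v ≠ 0 ∧ ∀ a, u a v = v := by
  classical
  suffices h : ∀ s : Finset F, ∃ v : V, v ≠ 0 ∧ ∀ a ∈ s, u a v = v by simpa using h univ
  intro s
  induction s using Finset.induction_on with
  | empty => simpa using exists_ne (0 : V)
  | insert b s _ ih =>
    obtain ⟨v, h0, hv⟩ := ih
    haveI : CharP (End k V) p := charP_of_injective_algebraMap (FaithfulSMul.algebraMap_injective k _) p
    have h2 : (u b - 1) ^ p = 0 := by
      rw [sub_pow_char_of_commute _ (Commute.one_right _), h1, one_pow, sub_self]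
    have h3 : ∃ n : ℕ, ((u b - 1) ^ n) v = 0 := ⟨p, by rw [h2]; rfl⟩
    obtain ⟨n, hn⟩ : ∃ n, Nat.find h3 = n + 1 := Nat.exists_eq_succ_of_ne_zero fun e => by
      have := Nat.find_spec h3
      rw [e] at this
      exact h0 this
    refine ⟨((u b - 1) ^ n) v, Nat.find_min h3 (by omega), fun a ha => ?_⟩
    rcases mem_insert.1 ha with rfl | ha
    · have := Nat.find_spec h3
      rw [hn, pow_succ', End.mul_apply, LinearMap.sub_apply, sub_eq_zero] at this
      exact this
    · rw [← End.mul_apply, (((hc a b).sub_right (Commute.one_right _)).pow_right n).eq, End.mul_apply, hv a ha]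

end fix

variable {F : Type*} [Field F]

/-- upper unitriangular matrices -/
def uu (b : F) : SL(2, F) := ⟨!![1, b; 0, 1], by simp [det_fin_two]⟩

/-- lower unitriangular matrices -/
def ll (b : F) : SL(2, F) := ⟨!![1, 0; b, 1], by simp [det_fin_two]⟩

/-- diagonal matrices -/
def tt (c : Fˣ) : SL(2, F) := ⟨!![(c⁻¹ : Fˣ), 0; 0, c], by simp [det_fin_two]⟩

/-- the Weyl element -/
def ww : SL(2, F) := ⟨!![0, -1; 1, 0], by simp [det_fin_two]⟩

@[simp] theorem uu_coe (b : F) : (uu b).1 = !![1, b; 0, 1] := rfl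
@[simp] theorem ll_coe (b : F) : (ll b).1 = !![1, 0; b, 1] := rfl
@[simp] theorem tt_coe (c : Fˣ) : (tt c).1 = !![(c : F)⁻¹, 0; 0, c] := by simp [tt]
@[simp] theorem ww_coe : (ww : SL(2, F)).1 = !![0, -1; 1, 0] := rfl

theorem uu_mul (a b : F) : uu a * uu b = uu (a + b) := by
  ext i j; fin_cases i <;> fin_cases j <;> simp [add_comm]

theorem uu_zero : uu (0 : F) = 1 := by
  ext i j; fin_cases i <;> fin_cases j <;> simp

theorem uu_pow (a : F) (n : ℕ) : uu a ^ n = uu (n * a) := by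
  induction n with
  | zero => simp [uu_zero]
  | succ n ih => rw [pow_succ, ih, uu_mul]; congr 1; push_cast; ring

theorem tt_mul (a b : Fˣ) : tt a * tt b = tt (a * b) := by
  ext i j; fin_cases i <;> fin_cases j <;> simp [mul_comm]

theorem tt_one : tt (1 : Fˣ) = 1 := by
  ext i j; fin_cases i <;> fin_cases j <;> simp

theorem tt_uu (c : Fˣ) (b : F) : tt c * uu b = uu (b / c ^ 2) * tt c := by
  ext i j; fin_cases i <;> fin_cases j <;> simp
  field_simp

theorem ww_uu (b : F) : ww * uu b * ww⁻¹ = ll (-b) := by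
  rw [mul_inv_eq_iff_eq_mul]
  ext i j; fin_cases i <;> fin_cases j <;> simp

theorem bruhat1 (g : SL(2, F)) (h : g 1 0 ≠ 0) :
    g = uu (g 0 0 / g 1 0) * (tt (Units.mk0 _ h) * (ww * uu (g 1 1 / g 1 0))) := by
  have := g.det_coe
  rw [det_fin_two] at this
  ext i j; fin_cases i <;> fin_cases j <;> simp <;> field_simp
  linear_combination -this

theorem ne11 (g : SL(2, F)) (h : g 1 0 = 0) : g 1 1 ≠ 0 := fun e => by
  have := g.det_coe
  rw [det_fin_two] at this
  simp [h, e] at this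

theorem bruhat2 (g : SL(2, F)) (h : g 1 0 = 0) : g = uu (g 0 1 / g 1 1) * tt (Units.mk0 _ (ne11 g h)) := by
  have := g.det_coe
  have h1 := ne11 g h
  rw [det_fin_two, h] at this
  ext i j; fin_cases i <;> fin_cases j <;> simp [h] <;> field_simp
  linear_combination this

variable [Fintype F] {k : Type*} [Field k] (p : ℕ) [hp : Fact p.Prime] [CharP k p] (ι : F →+* k)
  {S : Type*} [AddCommGroup S] [Module k S] [Nontrivial S] (ρ : SL(2, F) →* End k S)
include hp ι

theorem uu_p (a : F) : uu a ^ p = 1 := by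
  haveI := (RingHom.charP_iff_charP ι p).2 inferInstance
  rw [uu_pow, CharP.cast_eq_zero, zero_mul, uu_zero]

theorem card_zero : (Fintype.card F : k) = 0 := by
  rw [← map_natCast ι, FiniteField.cast_card_eq_zero, map_zero]

theorem ex_fun : ∃ (l : Dual k S) (a : ℕ), l ≠ 0 ∧ 0 < a ∧ a < Fintype.card F ∧ (∀ b s, l (ρ (uu b) s) = l s) ∧
    ∀ c s, l (ρ (tt c) s) = ι c ^ a * l s := by
  classical
  obtain ⟨l, h0, hl⟩ := ex_fix p (V := Dual k S) (fun b => (ρ (uu b)).dualMap) (fun a b => by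
    ext l s
    simp only [End.mul_apply, LinearMap.dualMap_apply]
    rw [← End.mul_apply, ← map_mul, uu_mul, add_comm, ← uu_mul, map_mul, End.mul_apply]) fun a => by
      have : ∀ n, (ρ (uu a)).dualMap ^ n = (ρ (uu a ^ n)).dualMap := fun n => by
        induction n with
        | zero => simp [End.one_eq_id]
        | succ n ih => rw [pow_succ, ih, pow_succ', map_mul]; rfl
      rw [this, uu_p p ι, map_one]; rfl
  have hl' : ∀ b s, l (ρ (uu b) s) = l s := fun b s => congrArg (· s) (hl b)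
  have q1 := Fintype.one_lt_card (α := F)
  let L : ℕ → Dual k S := fun a => ∑ c : Fˣ, ι (c⁻¹ : Fˣ) ^ a • (ρ (tt c)).dualMap l
  have h1 : ∑ a ∈ range (Fintype.card F - 1), L (a + 1) = -l := by
    simp only [L]
    rw [sum_comm, sum_eq_single_of_mem 1 (mem_univ _)]
    · simp only [inv_one, Units.val_one, map_one, one_pow, one_smul, tt_one, sum_const, card_range]
      rw [← Nat.cast_smul_eq_nsmul k, Nat.cast_sub q1.le, card_zero p ι]
      simp [End.one_eq_id]
    · intro c _ hc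
      have h2 : ι (c⁻¹ : Fˣ) ≠ 1 := fun e => hc (by
        rw [← map_one ι, ι.injective.eq_iff, Units.val_eq_one, inv_eq_one] at e; exact e)
      rw [← sum_smul]
      simp only [pow_succ, ← sum_mul]
      rw [geom_sum_eq h2, ← map_pow, FiniteField.pow_card_sub_one_eq_one _ (Units.ne_zero _)]
      simp
  obtain ⟨a, ha, h2⟩ := exists_ne_zero_of_sum_ne_zero (h1 ▸ neg_ne_zero.2 h0)
  refine ⟨L (a + 1), a + 1, h2, by omega, by have := mem_range.1 ha; omega, fun b s => ?_, fun c s => ?_⟩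
  · simp only [L, LinearMap.sum_apply, LinearMap.smul_apply, LinearMap.dualMap_apply]
    refine sum_congr rfl fun c _ => ?_
    rw [← End.mul_apply, ← map_mul, tt_uu, map_mul, End.mul_apply, hl']
  · simp only [L, LinearMap.sum_apply, LinearMap.smul_apply, LinearMap.dualMap_apply, mul_sum]
    refine Fintype.sum_equiv (Equiv.mulRight c) _ _ fun d => ?_
    rw [← End.mul_apply, ← map_mul, tt_mul, smul_eq_mul, smul_eq_mul, ← mul_assoc, ← mul_pow, ← map_mul]
    congr 3
    simp [mul_comm]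

theorem ex_hw (hs : ∀ N : Submodule k S, (∀ g, ∀ s ∈ N, ρ g s ∈ N) → N = ⊥ ∨ N = ⊤) :
    ∃ (Ψ : S →ₗ[k] SL(2, F) → k) (a : ℕ) (s : S), Function.Injective Ψ ∧ a < Fintype.card F ∧
      (∀ h s g, Ψ (ρ h s) g = Ψ s (g * h)) ∧ ∀ g, Ψ s g = ι (g 1 0) ^ a := by
  classical
  obtain ⟨l, a, h0, a0, a1, hu, ht⟩ := ex_fun p ι ρ
  let Ψ : S →ₗ[k] SL(2, F) → k := LinearMap.pi fun g => l ∘ₗ ρ g
  have hΨ : ∀ s g, Ψ s g = l (ρ g s) := fun s g => rfl
  have he : ∀ h s g, Ψ (ρ h s) g = Ψ s (g * h) := fun h s g => by rw [hΨ, hΨ, map_mul]; rfl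
  have hi : Function.Injective Ψ := by
    rw [← LinearMap.ker_eq_bot]
    refine (hs _ fun g s h => funext fun x => ?_).resolve_right fun e => h0 (LinearMap.ext fun s => ?_)
    · rw [he, show Ψ s = 0 from h]; rfl
    · have : Ψ s = 0 := (e ▸ Submodule.mem_top : s ∈ LinearMap.ker Ψ)
      simpa [hΨ] using congrFun this 1
  suffices h : ∃ a < Fintype.card F, ∃ s, ∃ c ≠ 0, ∀ g, Ψ s g = c * ι (g 1 0) ^ a by
    obtain ⟨a, h1, s, c, c0, h⟩ := h
    exact ⟨Ψ, a, c⁻¹ • s, hi, h1, he, fun g => by simp [h, c0]⟩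
  have key : ∀ s, (∀ b, ρ (uu b) s = s) → ∀ g, Ψ s g =
      if g 1 0 = 0 then ι (g 1 1) ^ a * Ψ s 1 else ι (g 1 0) ^ a * Ψ s ww := fun s h g => by
    split_ifs with h1
    · conv_lhs => rw [bruhat2 g h1]
      simp [hΨ, hu, ht]
    · conv_lhs => rw [bruhat1 g h1]
      simp [hΨ, hu, ht, h]
  obtain ⟨s, s0, h1⟩ := ex_fix p (fun b => ρ (uu b))
    (fun a b => by rw [Commute, SemiconjBy, ← map_mul, ← map_mul, uu_mul, uu_mul, add_comm])
    fun b => by rw [← map_pow, uu_p p ι, map_one]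
  have good : ∀ s, (∀ b, ρ (uu b) s = s) → Ψ s 1 = 0 → Ψ s ww ≠ 0 →
      ∃ a < Fintype.card F, ∃ s, ∃ c ≠ 0, ∀ g, Ψ s g = c * ι (g 1 0) ^ a := fun s h h2 h3 =>
    ⟨a, a1, s, _, h3, fun g => by
      rw [key s h g, mul_comm]
      split_ifs with h4
      · simp [h2, h4, a0.ne']
      · exact mul_comm _ _⟩
  by_cases h2 : Ψ s 1 = 0
  · refine good s h1 h2 fun h3 => s0 (hi (funext fun g => ?_))
    simp [key s h1 g, h2, h3]
  let s1 := ∑ b : F, ρ (uu b * ww⁻¹) s
  have h3 : ∀ g, Ψ s1 g = ∑ b : F, Ψ s (g * uu b * ww⁻¹) := fun g => by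
    simp only [s1, map_sum, Finset.sum_apply, he, mul_assoc]
  by_cases h4 : Ψ s1 ww = 0
  swap
  · refine good s1 (fun b => ?_) ?_ h4
    · simp only [s1, map_sum]
      refine Fintype.sum_equiv (Equiv.addLeft b) _ _ fun c => ?_
      rw [← End.mul_apply, ← map_mul, ← mul_assoc, uu_mul]; rfl
    · simp [h3, hΨ, hu, card_zero p ι]
  have h5 : ∀ b : F, Ψ s (ww * uu b * ww⁻¹) = ι (-b) ^ a * Ψ s ww + if b = 0 then Ψ s 1 else 0 := fun b => by
    rw [ww_uu, key s h1]
    by_cases e : b = 0 <;> simp [e, a0.ne']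
  simp only [h3, h5, sum_add_distrib, sum_ite_eq', mem_univ, if_true, ← sum_mul, ← map_pow, ← map_sum] at h4
  rw [Fintype.sum_equiv (Equiv.neg F) (fun b => (-b) ^ a) (fun b => b ^ a) fun _ => rfl] at h4
  obtain rfl : a = Fintype.card F - 1 := by
    by_contra e
    rw [FiniteField.sum_pow_lt_card_sub_one _ _ (by omega)] at h4
    simp [h2] at h4
  have h6 : ∑ b : F, b ^ (Fintype.card F - 1) = -1 := by
    rw [← add_sum_erase _ _ (mem_univ 0), zero_pow a0.ne', zero_add, sum_congr rfl fun b hb =>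
      FiniteField.pow_card_sub_one_eq_one b (ne_of_mem_erase hb)]
    simp [Nat.cast_sub (Fintype.one_lt_card (α := F)).le]
  refine ⟨0, by omega, s, _, h2, fun g => ?_⟩
  rw [h6, map_neg, map_one] at h4
  rw [key s h1 g, ← map_pow, ← map_pow]
  split_ifs with h7
  · simp [FiniteField.pow_card_sub_one_eq_one _ (ne11 g h7)]
  · rw [FiniteField.pow_card_sub_one_eq_one _ h7, map_one]
    linear_combination -h4

end H20.E8
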