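/-
Simple modules of `SL₂(q)` in the defining characteristic, part 2: eigenbases.
-/
import Cfsg.Agent.H20.E8.A

set_option autoImplicit false
set_option linter.unusedSectionVars false
set_option linter.style.haveILetI false

namespace H20.E8
open Matrix Module Finset
open scoped MatrixGroups

/-- the exponents occurring in the simple module of highest weight `a` -/
def BB (p a : ℕ) : Finset ℕ := (range (a + 1)).filter fun b => ¬ p ∣ a.choose b

variable {F : Type*} [Field F] [Fintype F] {k : Type*} [Field k] (p : ℕ) [hp : Fact p.Prime] [CharP k p]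
  (ι : F →+* k)

theorem vdm {n : ℕ} (hn : n ≤ Fintype.card F) (x : ℕ → k) (h : ∀ c, ∑ b ∈ range n, x b * ι c ^ b = 0) :
    ∀ b < n, x b = 0 := fun b hb => by
  obtain ⟨e⟩ : Nonempty (Fin n ↪ F) := Function.Embedding.nonempty_of_card_le (by simpa using hn)
  exact congrFun (eq_zero_of_forall_index_sum_mul_pow_eq_zero (f := fun i => ι (e i)) (v := fun i => x i)
    (ι.injective.comp e.injective) fun j => by rw [← h (e j), sum_range]) ⟨b, hb⟩

theorem vdm_mem {V : Type*} [AddCommGroup V] [Module k V] (P : Submodule k V) {n : ℕ} (hn : n ≤ Fintype.card F)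
    (x : ℕ → V) (h : ∀ c, ∑ b ∈ range n, ι c ^ b • x b ∈ P) : ∀ b < n, x b ∈ P := fun b hb => by
  rw [← Subspace.forall_mem_dualAnnihilator_apply_eq_zero_iff]
  intro f hf
  refine vdm ι hn (fun b => f (x b)) (fun c => ?_) b hb
  simpa [mul_comm] using (Submodule.mem_dualAnnihilator f).1 hf _ (h c)

section
variable {A : Type*} [CommRing A] [Algebra k A]

variable (k) in
/-- span of the monomials -/
def Mon (a : ℕ) (x y : A) : Submodule k A := Submodule.span k (Set.range fun b : BB p a => x ^ b.1 * y ^ (a - b))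

theorem pow_mem_Mon (a : ℕ) (x y : A) (c d : k) : (c • x + d • y) ^ a ∈ Mon k p a x y := by
  rw [add_pow]
  refine sum_mem fun b hb => ?_
  rw [smul_pow, smul_pow, smul_mul_smul_comm, ← nsmul_eq_mul', ← Nat.cast_smul_eq_nsmul k]
  by_cases h : p ∣ a.choose b
  · rw [(CharP.cast_eq_zero_iff k p _).2 h, zero_smul]; exact zero_mem _
  · exact Submodule.smul_mem _ _ (Submodule.smul_mem _ _ (Submodule.subset_span ⟨⟨b, mem_filter.2 ⟨hb, h⟩⟩, rfl⟩))

end

/-- linear forms in the bottom row -/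
def lf (v : Fin 2 → k) (g : SL(2, F)) : k := ι (g 1 0) * v 0 + ι (g 1 1) * v 1

theorem lf_mul (v : Fin 2 → k) (g h : SL(2, F)) : lf ι v (g * h) = lf ι (h.1.map ι *ᵥ v) g := by
  simp [lf, mulVec, dotProduct, mul_apply, Fin.sum_univ_two]
  ring

theorem lf_comb {v w : Fin 2 → k} (h : v 0 * w 1 - v 1 * w 0 ≠ 0) (x : Fin 2 → k) :
    ∃ c d : k, lf ι x = c • lf ι v + d • lf ι w := by
  refine ⟨(x 0 * w 1 - x 1 * w 0) / (v 0 * w 1 - v 1 * w 0), (v 0 * x 1 - v 1 * x 0) / (v 0 * w 1 - v 1 * w 0),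
    funext fun g => ?_⟩
  simp only [lf, Pi.add_apply, Pi.smul_apply, smul_eq_mul]
  rw [div_mul_eq_mul_div, div_mul_eq_mul_div, ← add_div, eq_div_iff h]
  ring

theorem simple_sl2 {S : Type*} [AddCommGroup S] [Module k S] [Nontrivial S] (ρ : SL(2, F) →* End k S)
    (hs : ∀ N : Submodule k S, (∀ g, ∀ s ∈ N, ρ g s ∈ N) → N = ⊥ ∨ N = ⊤) :
    ∃ a < Fintype.card F, ∀ (g : SL(2, F)) (l m : k) (v w : Fin 2 → k), v 0 * w 1 - v 1 * w 0 ≠ 0 →
      g.1.map ι *ᵥ v = l • v → g.1.map ι *ᵥ w = m • w →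
      ∃ b : Basis (BB p a) k S, ∀ i, ρ g (b i) = (l ^ i.1 * m ^ (a - i)) • b i := by
  obtain ⟨Ψ, a, s, hi, ha, he, h0⟩ := ex_hw p ι ρ hs
  have q1 := Fintype.one_lt_card (α := F)
  have h1 : ∀ h, Ψ (ρ h s) = lf ι (h.1.map ι *ᵥ ![1, 0]) ^ a := fun h => funext fun g => by
    rw [he, h0, Pi.pow_apply, ← lf_mul]; simp [lf]
  have h2 : Submodule.span k (Set.range fun h => ρ h s) = ⊤ := by
    refine (hs _ fun g x hx => ?_).resolve_left fun e => ?_
    · have : (Submodule.span k (Set.range fun h => ρ h s)).map (ρ g) ≤ Submodule.span k (Set.range fun h => ρ h s) := by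
        rw [Submodule.map_span_le]
        rintro _ ⟨h, rfl⟩
        exact Submodule.subset_span ⟨g * h, by simp⟩
      exact this ⟨x, hx, rfl⟩
    · have := h0 ww
      rw [show s = 0 by simpa using Submodule.span_eq_bot.1 e _ ⟨1, rfl⟩] at this
      simp [eq_comm (a := (0 : k))] at this
  have h3 : ∀ v w : Fin 2 → k, v 0 * w 1 - v 1 * w 0 ≠ 0 → LinearMap.range Ψ ≤ Mon k p a (lf ι v) (lf ι w) :=
    fun v w h => by
      rw [LinearMap.range_eq_map, ← h2, Submodule.map_span_le]
      rintro _ ⟨g, rfl⟩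
      obtain ⟨c, d, e⟩ := lf_comb ι h (g.1.map ι *ᵥ ![1, 0])
      rw [h1, e]
      exact pow_mem_Mon p a _ _ c d
  have h4 : Mon k p a (lf ι ![0, 1]) (lf ι ![1, 0]) ≤ LinearMap.range Ψ := by
    rw [Mon, Submodule.span_le]
    rintro _ ⟨⟨b, hb⟩, rfl⟩
    obtain ⟨hb, hb'⟩ := mem_filter.1 hb
    have := vdm_mem ι (LinearMap.range Ψ) ha
      (fun b => (a.choose b : k) • (lf ι ![0, 1] ^ b * lf ι ![1, 0] ^ (a - b))) (fun c => ⟨ρ (ll c) s, by
        rw [h1, show lf ι ((ll c).1.map ι *ᵥ ![1, 0]) = ι c • lf ι ![0, 1] + lf ι ![1, 0] from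
          funext fun g => by simp [lf, mulVec, dotProduct]; ring, add_pow]
        refine sum_congr rfl fun b _ => ?_
        rw [smul_pow, ← nsmul_eq_mul', ← Nat.cast_smul_eq_nsmul k, smul_mul_assoc, smul_comm]⟩) b (mem_range.1 hb)
    exact (Submodule.smul_mem_iff _ fun e => hb' ((CharP.cast_eq_zero_iff k p _).1 e)).1 this
  have h5 : LinearIndependent k fun b : BB p a => lf ι ![0, 1] ^ b.1 * lf ι ![1, 0] ^ (a - b) := by
    classical
    rw [Fintype.linearIndependent_iff]
    intro x hx i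
    have := vdm ι ha (fun b => if h : b ∈ BB p a then x ⟨b, h⟩ else 0) (fun c => ?_) i
      (mem_range.1 (mem_filter.1 i.2).1)
    · simpa using this
    · have := congrFun hx (ww * uu c)
      rw [← sum_subset (s₁ := BB p a) (filter_subset _ _) fun b _ h => by simp [h], ← sum_coe_sort]
      simpa [lf, mul_apply] using this
  haveI : FiniteDimensional k (LinearMap.range Ψ) := by
    rw [le_antisymm (h3 _ _ (by simp)) h4]
    exact FiniteDimensional.span_of_finite k (Set.finite_range _)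
  have h6 : finrank k (LinearMap.range Ψ) = Fintype.card (BB p a) := by
    rw [le_antisymm (h3 _ _ (by simp)) h4]
    exact finrank_span_eq_card h5
  refine ⟨a, ha, fun g l m v w h hv hw => ?_⟩
  haveI : FiniteDimensional k (Mon k p a (lf ι v) (lf ι w)) :=
    FiniteDimensional.span_of_finite k (Set.finite_range _)
  have h7 : LinearMap.range Ψ = Mon k p a (lf ι v) (lf ι w) :=
    Submodule.eq_of_le_of_finrank_le (h3 v w h) (h6 ▸ finrank_range_le_card _)
  have h8 : ∀ b : BB p a, ∃ x, Ψ x = lf ι v ^ b.1 * lf ι w ^ (a - b) := fun b =>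
    h7.ge (Submodule.subset_span ⟨b, rfl⟩)
  choose x hx using h8
  refine ⟨basisOfTopLeSpanOfCardEqFinrank x (fun y _ => ?_)
    (by rw [← h6, LinearMap.finrank_range_of_inj hi]), fun i => hi (funext fun y => ?_)⟩
  · rw [← Submodule.apply_mem_span_image_iff_mem_span hi, ← Set.range_comp, show Ψ ∘ x = _ from funext hx]
    exact h7.le ⟨y, rfl⟩
  · simp only [coe_basisOfTopLeSpanOfCardEqFinrank, he, map_smul, hx, Pi.mul_apply, Pi.pow_apply, lf_mul, hv, hw,
      Pi.smul_apply, smul_eq_mul]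
    simp only [lf, Pi.smul_apply, smul_eq_mul, mul_left_comm _ l, mul_left_comm _ m, ← mul_add, mul_pow]
    ring

end H20.E8
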